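import Groth.Agent.Deform.K735.SecE
import Groth.Agent.Deform.K694.Cov
import Groth.Agent.DeRhamSh.K853.SecSysR
import Groth.Agent.DeRhamSh.K853.RingCx
import Groth.Agent.DeRhamSh.K854.ExtCoh

/-!
# The Čech cohomology of the system of forms is the Hodge cohomology

`main`: for `f : X ⟶ Spec k` smooth, `D : DeRhamSh.OmegaCx f` and a finite cover `U` with affine finite intersections,
`H^b(cech ((cov f U).sys a)) ≃ₗ[k] H^b(X, Ω^a)`.
-/

set_option autoImplicit false

universe u

open CategoryTheory CategoryTheory.Limits AlgebraicGeometry Opposite TopologicalSpace exteriorPower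

namespace K735.HodgeIso

open Groth.Agent.Lefpen.H721.OmegaSec Groth.Agent.Lefpen.H722.Sys K853.SecSysR Groth.Agent.CurvesB.OmegaDer

section cx

variable {k : Type u} [CommRing k] {ι : Type}

/-- homology of the Čech complex as cocycles modulo coboundaries -/
theorem nonempty_seqCoh (V : Sys k ι) (n : ℕ) : Nonempty (K853.SeqCoh.H (d V) n ≃ₗ[k] H V n) := by
  obtain ⟨e1⟩ := K853.SeqCoh.nonempty_congr (G := C V) (G' := fun p => ((cx V).X p : Type u)) (d := d V)
    (d' := fun p => ((cx V).d p (p + 1)).hom) (fun p => LinearEquiv.refl k (C V p))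
    (fun p x => by rw [cx_d]; rfl) n
  obtain ⟨e2⟩ := K853.RingCx.nonempty_seqCoh_equiv (cx V) n
  exact ⟨e1.trans e2⟩

end cx

variable {k : Type u} [CommRing k] {X : Scheme.{u}} (f : X ⟶ Spec (CommRingCat.of k))
  [QuasiSeparated f] (D : DeRhamSh.OmegaCx f) {ι : Type} (U : ι → X.Opens)

/-- **Čech cohomology of forms is Hodge cohomology.** -/
theorem main [Smooth f] (hcov : ⨆ i, U i = ⊤) (hU : ∀ s : Finset ι, s.Nonempty → IsAffineOpen (⨅ i ∈ s, U i))
    (hA : ∀ (b : ℕ) (σ : Fin (b + 1) → ι), IsAffineOpen (⨅ i ∈ Set.range σ, U i))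
    (a b : ℕ) [Module k (Coh.HH X (D.term a) b)]
    (hsmul : ∀ (t : k) (x : Coh.HH X (D.term a) b), t • x = (Coh.toGlobal f t) • x) :
    Nonempty ((K694.cech ((K694.cov f U).sys a)).H b ≃ₗ[k] Coh.HH X (D.term a) b) := by
  obtain ⟨E, -, hE⟩ := SecE.exists_family f D
  have hsm : ∀ (a : ℕ) (W : X.affineOpens) (t : k) (x : ↥(⋀[SA f W.1]^a (Ω[SA f W.1⁄k]))),
      E a W (t • x) = (Groth.Agent.CurvesB.OmegaStalkDict.secHom f W.1 t • (E a W x : Γ(D.term a, W.1)) : Γ(D.term a, W.1)) := by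
    intro a W t x
    rw [← algebraMap_smul (SA f W.1) t x, map_smul]
    rfl
  let e : ∀ (p : ℕ) (σ : Fin (p + 1) → ι), ((K694.cov f U).sys a).M (Set.range σ) ≃ₗ[k]
      (secSys f U (D.term a)).M (Set.range σ) := fun p σ =>
    { toFun := fun x => E a ⟨_, hA p σ⟩ x
      invFun := fun y => (E a ⟨_, hA p σ⟩).symm y
      left_inv := fun x => LinearEquiv.symm_apply_apply (E a ⟨_, hA p σ⟩) x
      right_inv := fun x => LinearEquiv.apply_symm_apply (E a ⟨_, hA p σ⟩) x
      map_add' := fun x y => map_add (E a ⟨_, hA p σ⟩) x y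
      map_smul' := fun t x => hsm a ⟨_, hA p σ⟩ t x }
  obtain ⟨e1⟩ := K853.SeqCoh.nonempty_congr (G := C ((K694.cov f U).sys a)) (G' := C (secSys f U (D.term a)))
    (d := d ((K694.cov f U).sys a)) (d' := d (secSys f U (D.term a)))
    (fun p => LinearEquiv.piCongrRight fun σ => e p σ) (fun p x => by
      funext σ
      change e (p + 1) σ (d ((K694.cov f U).sys a) p x σ) =
        d (secSys f U (D.term a)) p (fun τ => e p τ (x τ)) σ
      rw [d_apply, d_apply, map_sum]
      refine Finset.sum_congr rfl fun j _ => ?_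
      rw [map_zsmul]
      congr 1
      exact (hE a ⟨_, hA p (σ ∘ j.succAbove)⟩ ⟨_, hA (p + 1) σ⟩ (biInf_mono (face_subset σ j)) _).symm) b
  obtain ⟨e2⟩ := nonempty_seqCoh (secSys f U (D.term a)) b
  obtain ⟨e3⟩ := nonempty_equiv f U hcov hU (D.term a) (K854.ExtCoh.isCoh_omegaPow f (D.isExtPow a)).1 b hsmul
  exact ⟨(e1.trans e2).trans e3⟩

end K735.HodgeIso
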