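import Groth.Agent.Deform.K735.ModE
import Groth.Agent.Deform.K694.Cov
import Groth.Agent.DelIll.K890.CechFull

/-!
# The combinatorial Čech–de Rham complex and the total cochains of the complex of sheaves

`nonempty_tot`: for `f : X ⟶ Spec k`, `D : DeRhamSh.OmegaCx f` and a finite cover `U` whose finite intersections
are affine, `H^n((cov f U).dr.tot) ≃ₗ[k] H^n(Tm)`, `Tm` the total cochains of `K890.TotMod` for the full Čech datum.
-/

set_option autoImplicit false

universe u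

open CategoryTheory CategoryTheory.Limits AlgebraicGeometry Opposite TopologicalSpace exteriorPower

namespace K735.TotIso

open Groth.Agent.Lefpen.H721.OmegaSec Groth.Agent.Lefpen.H722.Sys K890.TotMod K890.CechFull K890.CechHT K735.ModE

/-- the signs comparing the two total complexes -/
def sgn (k : Type*) [CommRing k] : ℕ → kˣ
  | 0 => 1
  | b + 1 => (-1) ^ (b + 1) * sgn k b

theorem negOnePow_smul (k : Type*) [CommRing k] {M : Type*} [AddCommGroup M] [Module k M] (m : ℕ) (x : M) :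
    ((m : ℤ).negOnePow : ℤˣ) • x = ((-1 : k) ^ m) • x := by
  rcases Nat.even_or_odd m with hm | hm
  · rw [Int.negOnePow_even _ ((Int.even_coe_nat m).2 hm), hm.neg_one_pow, one_smul, one_smul]
  · rw [Int.negOnePow_odd _ ((Int.odd_coe_nat m).2 hm), hm.neg_one_pow, Units.neg_smul, one_smul, neg_smul, one_smul]

section cast

variable {X : TopCat.{u}} {K : CochainComplex (Sheaf (Opens.grothendieckTopology X) AddCommGrpCat.{u}) ℕ}
  {R : Type u} [CommRing R] (ρ : RAct R K)

/-- a section as an element of `GS` -/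
def asG (a : ℕ) {W : Opens X} (x : (K.X a).obj.obj (op W)) : GS ρ a W := x

theorem resG_resG (a : ℕ) {W W' W'' : Opens X} (h : W' ≤ W) (h' : W'' ≤ W') (x : GS ρ a W) :
    resG ρ a h' (resG ρ a h x) = resG ρ a (h'.trans h) x := by
  exact (ConcreteCategory.congr_hom ((K.X a).obj.map_comp (homOfLE h).op (homOfLE h').op) x).symm

theorem resG_self (a : ℕ) {W : Opens X} (x : GS ρ a W) : resG ρ a le_rfl x = x :=
  ConcreteCategory.congr_hom ((K.X a).obj.map_id (op W)) x

/-- sections over equal opens -/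
noncomputable def castG (a : ℕ) {W W' : Opens X} (h : W = W') : GS ρ a W ≃ₗ[R] GS ρ a W' where
  __ := resG ρ a h.ge
  invFun := resG ρ a h.le
  left_inv x := (resG_resG ρ a _ _ x).trans (resG_self ρ a x)
  right_inv x := (resG_resG ρ a _ _ x).trans (resG_self ρ a x)

theorem castG_apply (a : ℕ) {W W' : Opens X} (h : W = W') (x : GS ρ a W) : castG ρ a h x = resG ρ a h.ge x := rfl

theorem resG_dG (a a' : ℕ) {W W' : Opens X} (h : W' ≤ W) (x : GS ρ a W) :
    resG ρ a' h (dG ρ a a' W x) = dG ρ a a' W' (resG ρ a h x) :=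
  (ConcreteCategory.congr_hom ((K.d a a').hom.naturality (homOfLE h).op) x).symm

end cast

section H

variable {R : Type u} [CommRing R] {C : ℕ → Type u} [∀ n, AddCommGroup (C n)] [∀ n, Module R (C n)]

/-- two conventions for cohomology -/
theorem nonempty_ringLem (d : ∀ n, C n →ₗ[R] C (n + 1)) (n : ℕ) :
    Nonempty (K853.SeqCoh.H d n ≃ₗ[R] K890.RingLem.H d n) := by
  have h1 : (K853.SeqCoh.B d n).submoduleOf (K853.SeqCoh.Z d n) = (Groth.Agent.Ega3B.FlatCxB.bz d n :
      Submodule R (LinearMap.ker (d n))) := by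
    ext x
    cases n <;> exact Iff.rfl
  exact ⟨Submodule.quotEquivOfEq _ _ h1⟩

end H

variable {k : Type u} [CommRing k] {X : Scheme.{u}} (f : X ⟶ Spec (CommRingCat.of k))
  [QuasiSeparated f] (D : DeRhamSh.OmegaCx f) (h : KLinDR.TermwiseLinear (Coh.toGlobal f) D.K D.term D.iso)
  {ι : Type} [Fintype ι] [DecidableEq ι] (U : ι → X.Opens)

/-- the Čech datum -/
@[reducible] noncomputable def dat : Groth.Agent.Ega3B.CombRes.Data X.toTopCat := full (X := X.toTopCat) U

/-- an intersection as an affine open -/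
noncomputable def WR (hA : ∀ (b : ℕ) (σ : Fin (b + 1) → ι), IsAffineOpen (⨅ j, U (σ j))) {b : ℕ}
    (σ : Fin (b + 1) → ι) : X.affineOpens :=
  ⟨⨅ i ∈ Set.range σ, U i, by rw [iInf_range]; exact hA b σ⟩

theorem main (hA : ∀ (b : ℕ) (σ : Fin (b + 1) → ι), IsAffineOpen (⨅ j, U (σ j))) (n : ℕ) :
    Nonempty ((K694.cov f U).dr.tot.H n ≃ₗ[k] K890.RingLem.H (dm (ract f D h) (dat U)) n) := by
  obtain ⟨e, he1, he2⟩ := exists_model f D h
  have hσ : ∀ {b : ℕ} (σ : Fin (b + 1) → ι), (⨅ i ∈ Set.range σ, U i) = ⨅ j, U (σ j) := fun σ => iInf_range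
  -- the components
  let φ : ∀ (a b : ℕ) (σ : Fin (b + 1) → ι), ((K694.cov f U).dr.V a).M (Set.range σ) ≃ₗ[k]
      GS (ract f D h) a ((dat U).W b σ) := fun a b σ =>
    (show ↥(⋀[SA f (WR U hA σ).1]^a (Ω[SA f (WR U hA σ).1⁄k])) ≃ₗ[k] _ from e a (WR U hA σ)).trans
      (castG (ract f D h) a (hσ σ))
  have hφd : ∀ (a b : ℕ) (σ : Fin (b + 1) → ι) (x : ((K694.cov f U).dr.V a).M (Set.range σ)),
      φ (a + 1) b σ (((K694.cov f U).dr.δ a).app (Set.range σ) x) =
        dG (ract f D h) a (a + 1) ((dat U).W b σ) (φ a b σ x) := by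
    intro a b σ x
    change resG (ract f D h) (a + 1) (hσ σ).ge (e (a + 1) (WR U hA σ) (K694.dR k _ a x)) = _
    exact (congrArg (resG (ract f D h) (a + 1) (hσ σ).ge) (he1 a (WR U hA σ) x).symm).trans
      (resG_dG (ract f D h) a (a + 1) (hσ σ).ge (e a (WR U hA σ) x))
  have hφr : ∀ (a b : ℕ) (σ : Fin (b + 2) → ι) (j : Fin (b + 2))
      (x : ((K694.cov f U).dr.V a).M (Set.range (σ ∘ j.succAbove))),
      φ a (b + 1) σ (((K694.cov f U).dr.V a).res (face_subset σ j) x) =
        resG (ract f D h) a (face_le (U := U) σ j) (φ a b (σ ∘ j.succAbove) x) := by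
    intro a b σ j x
    change resG (ract f D h) a (hσ σ).ge (e a (WR U hA σ) ((K694.Wt.sqA (resA f _)).dm a x)) =
      resG (ract f D h) a _ (resG (ract f D h) a (hσ (σ ∘ j.succAbove)).ge (e a (WR U hA (σ ∘ j.succAbove)) x))
    have h1 := he2 a (WR U hA (σ ∘ j.succAbove)) (WR U hA σ) (biInf_mono (face_subset σ j)) x
    refine (congrArg (resG (ract f D h) a (hσ σ).ge) h1.symm).trans ?_
    exact (resG_resG _ _ _ _ _).trans (resG_resG _ _ _ _ _).symm
  -- the isomorphism with signs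
  let Ψ : ∀ n, (K694.cov f U).dr.T n ≃ₗ[k] Tm (ract f D h) (dat U) n := fun n =>
    LinearEquiv.piCongrRight fun p => LinearEquiv.piCongrRight fun σ =>
      (φ p.1.1 p.1.2 σ).trans (LinearEquiv.smulOfUnit (sgn k p.1.2))
  have hΨ : ∀ n (x : (K694.cov f U).dr.T n) (p : Ix n) (σ : Fin (p.1.2 + 1) → ι),
      Ψ n x p σ = (sgn k p.1.2 : k) • φ p.1.1 p.1.2 σ (x p σ) := fun n x p σ => rfl
  have hhor : ∀ (n : ℕ) (x : (K694.cov f U).dr.T n) (a b : ℕ) (hab : a + b = n + 1) (σ : Fin (b + 1) → ι),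
      (sgn k b : k) • φ a b σ ((K694.cov f U).dr.hor n x ⟨(a, b), hab⟩ σ) =
        asG (ract f D h) a (W := (dat U).W b σ) (hor (toT (ract f D h) (dat U) n (Ψ n x)) a b hab σ) := by
    intro n x a b hab σ
    cases a with
    | zero =>
      rw [K694.GS.hor_zero]
      change (sgn k b : k) • φ 0 b σ 0 = 0
      rw [map_zero, smul_zero]
    | succ a =>
      rw [K694.GS.hor_succ _ _ _ (by omega), mapC_apply, hφd]
      change _ = dG (ract f D h) a (a + 1) ((dat U).W b σ) (Ψ n x ⟨(a, b), by omega⟩ σ)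
      rw [hΨ, map_smul]
  have hver : ∀ (n : ℕ) (x : (K694.cov f U).dr.T n) (a b : ℕ) (hab : a + b = n + 1) (σ : Fin (b + 1) → ι),
      (sgn k b : k) • ((-1 : k) ^ a) • φ a b σ ((K694.cov f U).dr.ver n x ⟨(a, b), hab⟩ σ) =
        ((-1 : k) ^ (n + 1)) •
          asG (ract f D h) a (W := (dat U).W b σ) (ver (toT (ract f D h) (dat U) n (Ψ n x)) a b hab σ) := by
    intro n x a b hab σ
    cases b with
    | zero =>
      rw [K694.GS.ver_zero]
      change (sgn k 0 : k) • ((-1 : k) ^ a) • φ a 0 σ 0 = ((-1 : k) ^ (n + 1)) • (0 : GS (ract f D h) a ((dat U).W 0 σ))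
      rw [map_zero, smul_zero, smul_zero, smul_zero]
    | succ b =>
      rw [K694.GS.ver_succ _ _ _ (by omega), d_apply, map_sum]
      have h1 : asG (ract f D h) a (W := (dat U).W (b + 1) σ) (ver (toT (ract f D h) (dat U) n (Ψ n x)) a (b + 1) hab σ) =
          ∑ j : Fin (b + 2), (-1 : ℤ) ^ (j : ℕ) • resG (ract f D h) a (face_le (U := U) σ j)
            (Ψ n x ⟨(a, b), by omega⟩ (σ ∘ j.succAbove)) :=
        full_δ_apply (U := U) b ((toT (ract f D h) (dat U) n (Ψ n x)).at a b (by omega)) σ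
      rw [h1]
      simp only [map_zsmul, hφr, hΨ, map_smul, Finset.smul_sum]
      refine Finset.sum_congr rfl fun j _ => ?_
      rw [smul_comm ((-1 : k) ^ a), smul_comm (sgn k (b + 1) : k), smul_comm ((-1 : k) ^ (n + 1)), smul_smul, smul_smul]
      congr 2
      have h2 : (sgn k (b + 1) : k) = (-1) ^ (b + 1) * sgn k b := by simp [sgn]
      rw [h2, ← hab, pow_add]
      ring
  have hcomm : ∀ n (x : (K694.cov f U).dr.T n), Ψ (n + 1) ((K694.cov f U).dr.D n x) =
      dm (ract f D h) (dat U) n (Ψ n x) := by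
    intro n x
    funext ⟨⟨a, b⟩, hab⟩ σ
    rw [hΨ, K694.GS.D_apply]
    change (sgn k b : k) • φ a b σ ((K694.cov f U).dr.hor n x ⟨(a, b), hab⟩ σ +
      ((-1 : k) ^ a) • (K694.cov f U).dr.ver n x ⟨(a, b), hab⟩ σ) =
      asG (ract f D h) a (W := (dat U).W b σ) (hor (toT (ract f D h) (dat U) n (Ψ n x)) a b hab σ) +
        (((n + 1 : ℕ) : ℤ).negOnePow : ℤˣ) •
          asG (ract f D h) a (W := (dat U).W b σ) (ver (toT (ract f D h) (dat U) n (Ψ n x)) a b hab σ)
    rw [map_add, map_smul, smul_add, hhor, hver, negOnePow_smul k]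
  obtain ⟨e1⟩ := K853.SeqCoh.nonempty_congr (G := (K694.cov f U).dr.T) (G' := Tm (ract f D h) (dat U))
    (d := (K694.cov f U).dr.D) (d' := dm (ract f D h) (dat U)) Ψ hcomm n
  obtain ⟨e2⟩ := nonempty_ringLem (dm (ract f D h) (dat U)) n
  exact ⟨e1.trans e2⟩

end K735.TotIso
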