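import Groth.Agent.Deform.K735.DCat
import Groth.Agent.Deform.K735.TotIso
import Groth.Agent.Deform.K735.HodgeIso
import Groth.Agent.DelIll.K904.LogCxT
import Groth.Agent.Nrm16.K136.UnivOmega
import Groth.Agent.DeRhamSh.K854.ExtCoh
import Groth.Agent.Ega3B.CombMod
import Groth.Agent.S0002
import Mathlib.RingTheory.Length

/-!
# Degeneration of the Hodge to de Rham spectral sequence in terms of the combinatorial Čech–de Rham complex

`main : K694.PieceD`: the statement of S19853 implies `K694.HodgeCech`.
-/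

set_option autoImplicit false

universe w' u

open CategoryTheory CategoryTheory.Limits AlgebraicGeometry Opposite TopologicalSpace exteriorPower

namespace K735.PieceD

open Groth.Agent.Ega3B Groth.Agent.Ega3B.CombRes CategoryTheory.Abelian

theorem isAffineOpen_iInf {X : Scheme.{u}} [X.IsSeparated] {ι : Type*} (V : ι → X.Opens)
    (hV : ∀ i, IsAffineOpen (V i)) (s : Finset ι) (hs : s.Nonempty) : IsAffineOpen (⨅ i ∈ s, V i) := by
  classical
  induction hs using Finset.Nonempty.cons_induction with
  | singleton a => simpa using hV a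
  | cons a s h hs ih =>
    rw [Finset.cons_eq_insert, Finset.iInf_insert]
    exact (hV a).inf ih

theorem isAffineOpen_range {X : Scheme.{u}} [X.IsSeparated] {ι : Type*} (V : ι → X.Opens)
    (hV : ∀ i, IsAffineOpen (V i)) {b : ℕ} (σ : Fin (b + 1) → ι) : IsAffineOpen (⨅ i ∈ Set.range σ, V i) := by
  have h1 := isAffineOpen_iInf (fun j => V (σ j)) (fun j => hV _) Finset.univ Finset.univ_nonempty
  rw [iInf_range]
  simpa using h1

section acyc

attribute [local instance 3000] LocExact.hasSheafify

variable {X : TopCat.{u}} {D : Data X} [HasExt.{w'} (Sheaf (Opens.grothendieckTopology X) AddCommGrpCat.{u})]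

theorem acyclic_of_iso {F F' : Sheaf (Opens.grothendieckTopology X) AddCommGrpCat.{u}} (e : F ≅ F')
    (hF : D.Acyclic F) : D.Acyclic F' := by
  intro b β q
  have := hF b β q
  refine ⟨fun x y => ?_⟩
  have h1 : x.comp (Ext.mk₀ e.inv) (add_zero _) = y.comp (Ext.mk₀ e.inv) (add_zero _) := Subsingleton.elim _ _
  have h2 := congrArg (fun t => Ext.comp t (Ext.mk₀ e.hom) (add_zero _)) h1
  simpa using h2

end acyc

open K890.TotMod K890.CechFull K890.CechHT K735.ModE K735.TotIso

/-- **Piece (D).** -/
theorem main : K694.PieceD.{u} := by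
  intro H k _ _ X x _ _ ι _ U hU hcov n
  classical
  have : Fintype ι := Fintype.ofFinite ι
  let : X.Over (Spec (CommRingCat.of k)) := ⟨x⟩
  have hp : IsProper (X ↘ Spec (CommRingCat.of k)) := ‹IsProper x›
  have hs : Smooth (X ↘ Spec (CommRingCat.of k)) := ‹Smooth x›
  have hsep : X.IsSeparated := ⟨by rw [← terminal.comp_from x]; infer_instance⟩
  obtain ⟨D⟩ : Nonempty (DeRhamSh.OmegaCx x) :=
    K904.LogCxT.nonempty_cx_univ (K136.UnivOmega.isUniversal_dOmega x)
  have h := K853.CxAff.termwiseLinear x D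
  let : HasDerivedCategory.{u} (Sheaf (Opens.grothendieckTopology X) AddCommGrpCat.{u}) :=
    DCat.hasDerivedCategorySheaf X.toTopCat
  have hA : ∀ (b : ℕ) (σ : Fin (b + 1) → ι), IsAffineOpen (⨅ j, U (σ j)) := fun b σ => by
    rw [← iInf_range (g := fun i => U i)]
    exact isAffineOpen_range U hU σ
  -- de Rham
  obtain ⟨e1⟩ := TotIso.main x D h U hA n
  have hK : ∀ a, (dat U).Acyclic (D.K.X a) := fun a => acyclic_of_iso (D.iso a).symm
    (CombMod.acyclic (dat U) (K854.ExtCoh.isCoh_omegaPow x (D.isExtPow a)).1 hA)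
  obtain ⟨e2⟩ := K890.TotMod.nonempty_equiv (ract x D h) (full_locGood hcov) hK n (KLinDR.scalar h) (fun r => rfl)
  obtain ⟨hfin, hrank⟩ := H k X D h n
  have hlen : Module.length k ((K694.cov x U).dr.tot.H n) =
      (Module.finrank k (KLinDR.HdR (Coh.toGlobal x) D h n) : ℕ∞) := by
    have hfin' : Module.Finite k (KLinDR.HdR (Coh.toGlobal x) D h n) := hfin
    rw [(e1.trans e2).length_eq]
    exact Module.length_eq_finrank k (KLinDR.HdR (Coh.toGlobal x) D h n)
  have hH : ∀ a, Module.length k ((K694.cech ((K694.cov x U).sys a)).H (n - a)) =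
      (Module.finrank k (Coh.HH X (D.term a) (n - a)) : ℕ∞) := by
    intro a
    obtain ⟨e3⟩ := HodgeIso.main x D U hcov (fun s hs => isAffineOpen_iInf U hU s hs)
      (fun b σ => isAffineOpen_range U hU σ) a (n - a) (fun t x => rfl)
    have hf : Module.Finite k (Coh.HH X (D.term a) (n - a)) :=
      Groth.Agent.S0002.result k X (D.term a) (K854.ExtCoh.isCoh_omegaPow x (D.isExtPow a)) (n - a)
    rw [e3.length_eq]
    exact Module.length_eq_finrank k (Coh.HH X (D.term a) (n - a))
  refine ⟨?_, ?_⟩
  · rw [hlen]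
    exact ENat.natCast_ne_top _
  · rw [hlen, Finset.sum_congr rfl fun a _ => hH a, ← Nat.cast_sum]
    exact le_of_eq (congrArg _ hrank.symm)

end K735.PieceD
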