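import Groth.Agent.LoccohB.RpushTri
import Mathlib.CategoryTheory.Localization.LocallySmall
import Mathlib.CategoryTheory.Abelian.GrothendieckCategory.Basic

/-!
# A derived category with small Hom types for a Grothendieck abelian category

`hasDerivedCategory A : HasDerivedCategory.{v} A` for a Grothendieck abelian category `A : Type u` with morphisms
in `Type v`.  In particular for abelian sheaves on a space.
-/

set_option autoImplicit false

universe u v

open CategoryTheory CategoryTheory.Limits TopologicalSpace

namespace K735.DCat

/-- A derived category with small Hom types. -/
@[instance_reducible]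
noncomputable def hasDerivedCategory (A : Type u) [Category.{v} A] [Abelian A] [IsGrothendieckAbelian.{v} A] :
    HasDerivedCategory.{v} A :=
  letI := HasDerivedCategory.standard A
  haveI : LocallySmall.{v} (DerivedCategory A) :=
    Groth.Agent.LoccohB.RpushTri.locallySmall_derivedCategory Groth.Agent.LoccohB.RpushTri.hasKInj
  MorphismProperty.hasLocalizationOfLocallySmall.{v}
    (HomologicalComplex.quasiIso A (ComplexShape.up ℤ)) (DerivedCategory.Q (C := A))

/-- The same for abelian sheaves on a space. -/
@[instance_reducible]
noncomputable def hasDerivedCategorySheaf (X : TopCat.{u}) :
    HasDerivedCategory.{u} (Sheaf (Opens.grothendieckTopology X) AddCommGrpCat.{u}) :=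
  hasDerivedCategory _

end K735.DCat
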