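import Groth.Agent.Deform.K735.SecE
import Groth.Agent.DelIll.K890.TotMod

/-!
# The sections of the terms of a de Rham complex over affine opens as modules of forms

`exists_model`: for `f : X ⟶ Spec k`, `D : DeRhamSh.OmegaCx f`, an equivalence
`⋀^a Ω[SA f W⁄k] ≃ₗ[k] GS (ract f D h) a W` for `W` affine, compatible with differentials and restriction.
-/

set_option autoImplicit false

universe u

open CategoryTheory CategoryTheory.Limits AlgebraicGeometry Opposite TopologicalSpace exteriorPower

namespace K735.ModE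

open Groth.Agent.Lefpen.H721.OmegaSec K853.CxAff K890.TotMod

variable {k : Type u} [CommRing k] {X : Scheme.{u}} (f : X ⟶ Spec (CommRingCat.of k))
  [QuasiSeparated f] (D : DeRhamSh.OmegaCx f) (h : KLinDR.TermwiseLinear (Coh.toGlobal f) D.K D.term D.iso)

/-- The scalar action on the complex. -/
noncomputable def ract : RAct k D.K := RAct.of (KLinDR.scalarN h)

theorem ract_f (r : k) (a : ℕ) : (ract f D h).f r a = KLinDR.scalarEnd (Coh.toGlobal f) D.term D.iso r a := rfl

/-- Sections of the modules as sections of the complex. -/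
noncomputable def toG (a : ℕ) (W : X.Opens) : Γ(D.term a, W) ≃+ GS (ract f D h) a W where
  toFun x := (D.iso a).inv.hom.app (op W) x
  invFun x := (D.iso a).hom.hom.app (op W) x
  left_inv x := congr($(((D.iso a).inv_hom_id)).hom.app (op W) x)
  right_inv x := congr($(((D.iso a).hom_inv_id)).hom.app (op W) x)
  map_add' x y := map_add ((D.iso a).inv.hom.app (op W)).hom x y

theorem toG_smul (a : ℕ) (W : X.Opens) (r : k) (x : Γ(D.term a, W)) :
    toG f D h a W ((algebraMap k (SA f W) r) • x) = r • toG f D h a W x := by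
  rw [← smulAb_app_eq]
  have h1 : (D.iso a).inv ≫ (ract f D h).f r a = Coh.smulAb (D.term a) (Coh.toGlobal f r) ≫ (D.iso a).inv := by
    rw [ract_f, KLinDR.scalarEnd, Iso.inv_hom_id_assoc]
  exact congr($(h1.symm).hom.app (op W) x)

theorem toG_res (a : ℕ) {W W' : X.Opens} (hW : W' ≤ W) (x : Γ(D.term a, W)) :
    resG (ract f D h) a hW (toG f D h a W x) = toG f D h a W' ((D.term a).presheaf.map (homOfLE hW).op x) :=
  (ConcreteCategory.congr_hom ((D.iso a).inv.hom.naturality (homOfLE hW).op) x).symm

theorem toG_d (a : ℕ) (W : X.Opens) (x : Γ(D.term a, W)) :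
    dG (ract f D h) a (a + 1) W (toG f D h a W x) = toG f D h (a + 1) W (dSec D W a x) := by
  apply (toG f D h (a + 1) W).symm.injective
  rw [AddEquiv.symm_apply_apply]
  rfl

/-- **The model by forms** over affine opens. -/
theorem exists_model : ∃ e : ∀ (a : ℕ) (W : X.affineOpens),
    ↥(⋀[SA f W.1]^a (Ω[SA f W.1⁄k])) ≃ₗ[k] GS (ract f D h) a W.1,
      (∀ (a : ℕ) (W : X.affineOpens) (x : ↥(⋀[SA f W.1]^a (Ω[SA f W.1⁄k]))),
        dG (ract f D h) a (a + 1) W.1 (e a W x) = e (a + 1) W (K694.dR k (SA f W.1) a x)) ∧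
      ∀ (a : ℕ) (W W' : X.affineOpens) (hW : W'.1 ≤ W.1) (x : ↥(⋀[SA f W.1]^a (Ω[SA f W.1⁄k]))),
        resG (ract f D h) a hW (e a W x) = e a W' ((K694.Wt.sqA (resA f hW)).dm a x) := by
  obtain ⟨E, hE1, hE2⟩ := SecE.exists_family f D
  refine ⟨fun a W =>
    { toFun := fun x => toG f D h a W.1 (E a W x)
      invFun := fun y => (E a W).symm ((toG f D h a W.1).symm y)
      left_inv := fun x => by
        change (E a W).symm ((toG f D h a W.1).symm (toG f D h a W.1 (E a W x))) = x
        rw [AddEquiv.symm_apply_apply, LinearEquiv.symm_apply_apply]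
      right_inv := fun y => by
        change toG f D h a W.1 (E a W ((E a W).symm ((toG f D h a W.1).symm y))) = y
        rw [LinearEquiv.apply_symm_apply, AddEquiv.apply_symm_apply]
      map_add' := fun x y => by rw [map_add, map_add]
      map_smul' := fun r x => by
        rw [← algebraMap_smul (SA f W.1) r x, map_smul, toG_smul]
        rfl }, fun a W x => ?_, fun a W W' hW x => ?_⟩
  · change dG (ract f D h) a (a + 1) W.1 (toG f D h a W.1 (E a W x)) = toG f D h (a + 1) W.1 (E (a + 1) W _)
    rw [toG_d, hE1]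
  · change resG (ract f D h) a hW (toG f D h a W.1 (E a W x)) = toG f D h a W'.1 (E a W' _)
    rw [toG_res, hE2]

end K735.ModE
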