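import Groth.Agent.DeRhamSh.K853.CxAff
import Groth.Agent.Deform.K694.Wt

/-!
# The ring-level model of a de Rham complex over affine opens, compatibly with restriction and the differentials

`f : X ⟶ Spec A`, `D : DeRhamSh.OmegaCx f`: `exists_family` gives identifications
`E p W : ⋀^p Ω[SA f W⁄A] ≃ Γ(D.term p, W)` (`W` affine), linear over `SA f W`, intertwining `K694.dR` with the
differentials of `D` and the functoriality of forms with restriction.
-/

set_option autoImplicit false

universe u

open CategoryTheory CategoryTheory.Limits AlgebraicGeometry Opposite TopologicalSpace exteriorPower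

namespace K735.SecE

open Groth.Agent.Lefpen.H721.OmegaSec Groth.Agent.Lefpen.H721.OmegaPow Groth.Agent.CurvesB.OmegaStalkDict
open Groth.Agent.Sga67.Sec K853.CxAff
open Groth.Agent.CurvesB.OmegaDer

variable {A : Type u} [CommRing A] {X : Scheme.{u}} (f : X ⟶ Spec (CommRingCat.of A))
  [QuasiSeparated f] (D : DeRhamSh.OmegaCx f)

/-- **The ring-level model**, compatibly with differentials and restriction. -/
theorem exists_family :
    ∃ E : ∀ (p : ℕ) (W : X.affineOpens), ↥(⋀[SA f W.1]^p (Ω[SA f W.1⁄A])) ≃ₗ[SA f W.1] Γ(D.term p, W.1),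
      (∀ (p : ℕ) (W : X.affineOpens) (x : ↥(⋀[SA f W.1]^p (Ω[SA f W.1⁄A]))),
        dSec D W.1 p (E p W x) = E (p + 1) W (K694.dR A (SA f W.1) p x)) ∧
      ∀ (p : ℕ) (W W' : X.affineOpens) (h : W'.1 ≤ W.1) (x : ↥(⋀[SA f W.1]^p (Ω[SA f W.1⁄A]))),
        (D.term p).presheaf.map (homOfLE h).op (E p W x) = E p W' ((K694.Wt.sqA (resA f h)).dm p x) := by
  have : QuasiCompact (pullback.diagonal f) := inferInstance
  choose E hE using fun (p : ℕ) (W : X.affineOpens) => exists_ext_equiv f (j := p) (L := D.term p) (D.loc p) W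
  have hb : ∀ (W : X.affineOpens) (s : Γ(X, W.1)), (OmegaSh.dOmega f).app W.1 s = d f W.1 s :=
    fun W => K853.OmegaBridge.dOmega_app_eq f W.1
  have hE' : ∀ (p : ℕ) (W : X.affineOpens) (b₀ : Γ(X, W.1)) (b : Fin p → Γ(X, W.1)),
      E p W (DeRham.gen (KaehlerDifferential.D A (SA f W.1)) p b₀ b) =
        (D.loc p W).symm (b₀ • ιMulti Γ(X, W.1) p (fun i => (OmegaSh.dOmega f).app W.1 (b i))) := by
    intro p W b₀ b
    simp only [hb]
    have key : ∀ c : SA f W.1, E p W (c • ιMulti (SA f W.1) p (fun i => KaehlerDifferential.D A (SA f W.1) (b i))) =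
        c • E p W (ιMulti (SA f W.1) p (fun i => KaehlerDifferential.D A (SA f W.1) (b i))) :=
      fun c => map_smul (E p W) c _
    refine (key b₀).trans ?_
    rw [hE, map_smul]
    rfl
  have hE1 : ∀ (p : ℕ) (W : X.affineOpens) (b₀ : Γ(X, W.1)) (b : Fin p → Γ(X, W.1)),
      ((D.loc (p + 1) W).symm (ιMulti Γ(X, W.1) (p + 1)
        (Fin.cons ((OmegaSh.dOmega f).app W.1 b₀) (fun i => (OmegaSh.dOmega f).app W.1 (b i))))) =
      E (p + 1) W (ιMulti (SA f W.1) (p + 1) (Fin.cons (KaehlerDifferential.D A (SA f W.1) b₀)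
        (fun i => KaehlerDifferential.D A (SA f W.1) (b i)))) := by
    intro p W b₀ b
    have h1 := hE (p + 1) W (Fin.cons b₀ b : Fin (p + 1) → Γ(X, W.1))
    have h2 : (fun l : Fin (p + 1) => KaehlerDifferential.D A (SA f W.1) ((Fin.cons b₀ b : Fin (p + 1) → Γ(X, W.1)) l)) =
        Fin.cons (KaehlerDifferential.D A (SA f W.1) b₀) (fun i => KaehlerDifferential.D A (SA f W.1) (b i)) := by
      funext l
      refine Fin.cases ?_ (fun i => ?_) l <;> rfl
    have h3 : (fun l : Fin (p + 1) => (d f W.1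
        ((Fin.cons b₀ b : Fin (p + 1) → Γ(X, W.1)) l) : Γ(Omega.sheaf f, W.1))) =
        Fin.cons ((OmegaSh.dOmega f).app W.1 b₀) (fun i => (OmegaSh.dOmega f).app W.1 (b i)) := by
      funext l
      refine Fin.cases ?_ (fun i => ?_) l
      · exact (hb W b₀).symm
      · exact (hb W (b i)).symm
    rw [h2] at h1
    rw [h1]
    exact congrArg (fun z => (D.loc (p + 1) W).symm (ιMulti Γ(X, W.1) (p + 1) z)) h3.symm
  refine ⟨E, fun p W x => ?_, fun p W W' h x => ?_⟩
  · have key : ((dSec D W.1 p).comp (E p W).toLinearMap.toAddMonoidHom) =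
        ((E (p + 1) W).toLinearMap.toAddMonoidHom.comp (K694.dR A (SA f W.1) p).toAddMonoidHom) := by
      refine K852.DR.gen_ext (KaehlerDifferential.D A (SA f W.1)) (K852.DR.kaehler_span A (SA f W.1)) p _ _
        fun b₀ b => ?_
      change dSec D W.1 p (E p W _) = E (p + 1) W (K694.dR A (SA f W.1) p _)
      rw [hE' p W b₀ b, (K694.isDiff_dR A (SA f W.1)).1 p b₀ b]
      exact (dSec_rule D W p b₀ b).trans (hE1 p W b₀ b)
    exact DFunLike.congr_fun key x
  · rw [K694.Sq.dm_powS (resA f h) _ (fun a => rfl)]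
    have key : (((D.term p).presheaf.map (homOfLE h).op).hom.comp (E p W).toLinearMap.toAddMonoidHom) =
        ((E p W').toLinearMap.toAddMonoidHom.comp (powS (resA f h) p).toAddMonoidHom) := by
      apply add_hom_ext
      intro b a
      change res (D.term p) h (E p W (b • _)) = E p W' (powS (resA f h) p (b • _))
      rw [map_smul, LinearMap.map_smulₛₗ, map_smul, powS_D, hE]
      have h1 := hE p W' (fun l => X.presheaf.map (homOfLE h).op (a l))
      have h2 : (E p W') (exteriorPower.ιMulti (SA f W'.1) p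
          (fun l => KaehlerDifferential.D A (SA f W'.1) ((resA f h) (a l)))) = _ := h1
      rw [h2]
      have h3 := res_smul (D.term p) h b ((D.loc p W).symm (exteriorPower.ιMulti Γ(X, W.1) p
        (fun l => (d f W.1 (a l) : Sec (Omega.sheaf f) W.1))))
      refine h3.trans ?_
      have h4 : ∀ l, res (Omega.sheaf f) h (d f W.1 (a l)) =
          d f W'.1 (X.presheaf.map (homOfLE h).op (a l)) := fun l => d_res f h (a l)
      have h5 : res (D.term p) h ((D.loc p W).symm (exteriorPower.ιMulti Γ(X, W.1) p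
          (fun l => (d f W.1 (a l) : Sec (Omega.sheaf f) W.1)))) =
        (D.loc p W').symm (exteriorPower.ιMulti _ p (fun j => res (Omega.sheaf f) h
          (d f W.1 (a j)))) := D.loc_res p W W' h (fun l => (d f W.1 (a l) : Sec (Omega.sheaf f) W.1))
      simp only [h4] at h5
      exact congrArg (fun y : Sec (D.term p) W'.1 => resO X h b • y) h5
    exact DFunLike.congr_fun key x

end K735.SecE
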